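import Cfsg.Agent.Lib.Ostrom64.Spread
import Mathlib.LinearAlgebra.Matrix.ToLin
import Mathlib.LinearAlgebra.Dimension.Free
import Mathlib.RingTheory.IntegralDomain
import Mathlib.Algebra.Module.ZMod

/-!
The kernel of a spread: an additive set of endomorphisms of a finite group of prime exponent, of the
size of the group, containing `1` and with nonzero members invertible inside a second such set, is a
field.
-/

set_option autoImplicit false

namespace Cfsg.Agent.Lib.SpreadKernel35

universe u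

section hua

variable {R : Type u} [Ring R]

/-- Nonzero members of `S` have inverses in `T`. -/
def InvIn (S T : AddSubgroup R) : Prop :=
  ∀ a ∈ S, a ≠ 0 → ∃ b ∈ T, a * b = 1 ∧ b * a = 1

theorem inv_closed {S T : AddSubgroup R} (h1 : (1 : R) ∈ S) (hST : InvIn S T) (hTS : InvIn T S)
    (h10 : (1 : R) ≠ 0) : InvIn S S := by
  intro c hc hc0
  by_cases hc1 : c = 1
  · exact ⟨1, h1, by rw [hc1, one_mul], by rw [hc1, one_mul]⟩
  have h1T : (1 : R) ∈ T := by
    obtain ⟨b, hb, e, -⟩ := hST 1 h1 h10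
    rw [one_mul] at e
    rwa [e] at hb
  obtain ⟨c', -, hcc', hc'c⟩ := hST c hc hc0
  obtain ⟨d, hd, hcd, hdc⟩ := hST (c - 1) (sub_mem hc h1) (sub_ne_zero.2 hc1)
  have hz : 1 + d = c * d := by
    calc 1 + d = (c - 1) * d + d := by rw [hcd]
      _ = c * d := by noncomm_ring
  have hz0 : c * d ≠ 0 := by
    intro e
    have hd0 : d = 0 := by
      calc d = (c' * c) * d := by rw [hc'c, one_mul]
        _ = c' * (c * d) := by rw [mul_assoc]
        _ = 0 := by rw [e, mul_zero]
    exact h10 (by rw [← hcd, hd0, mul_zero])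
  obtain ⟨w, hw, hzw, -⟩ := hTS (c * d) (hz ▸ add_mem h1T hd) hz0
  have hw' : w = (c - 1) * c' := by
    calc w = ((c - 1) * c' * (c * d)) * w := by
          rw [show (c - 1) * c' * (c * d) = (c - 1) * (c' * c) * d from by noncomm_ring, hc'c,
            mul_one, hcd, one_mul]
      _ = (c - 1) * c' * ((c * d) * w) := by rw [mul_assoc]
      _ = (c - 1) * c' := by rw [hzw, mul_one]
  refine ⟨c', ?_, hcc', hc'c⟩
  rw [show c' = 1 - w from by
    rw [hw']
    calc c' = c * c' - (c * c' - c') := by abel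
      _ = 1 - (c - 1) * c' := by rw [sub_mul, one_mul, hcc']]
  exact sub_mem h1 hw

theorem aba_mem {S : AddSubgroup R} (hS : InvIn S S) {a b : R} (ha : a ∈ S) (hb : b ∈ S) :
    a * b * a ∈ S := by
  by_cases ha0 : a = 0
  · rw [ha0, mul_zero]; exact zero_mem S
  by_cases hb0 : b = 0
  · rw [hb0, mul_zero, zero_mul]; exact zero_mem S
  obtain ⟨a', ha'S, haa', ha'a⟩ := hS a ha ha0
  obtain ⟨b', hb'S, hbb', hb'b⟩ := hS b hb hb0
  by_cases hd : b' - a = 0
  · rw [← sub_eq_zero.1 hd, hb'b, one_mul]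
    exact hb'S
  obtain ⟨d', hd'S, hdd', hd'd⟩ := hS (b' - a) (sub_mem hb'S ha) hd
  have hy : a' + d' = a' * b' * d' := by
    calc a' + d' = a' * ((b' - a) * d') + (a' * a) * d' := by rw [hdd', ha'a, mul_one, one_mul]
      _ = a' * b' * d' := by noncomm_ring
  have hyz : (a' + d') * ((b' - a) * b * a) = 1 := by
    rw [hy]
    calc a' * b' * d' * ((b' - a) * b * a) = a' * b' * ((d' * (b' - a)) * b) * a := by noncomm_ring
      _ = a' * (b' * b) * a := by rw [hd'd, one_mul, ← mul_assoc]
      _ = 1 := by rw [hb'b, mul_one, ha'a]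
  by_cases h10 : (1 : R) = 0
  · exact absurd (by rw [← mul_one a, h10, mul_zero]) ha0
  have hy0 : a' + d' ≠ 0 := fun e => h10 (by rw [← hyz, e, zero_mul])
  obtain ⟨z, hz, -, hzy⟩ := hS (a' + d') (add_mem ha'S hd'S) hy0
  have hzeq : z = (b' - a) * b * a := by
    calc z = z * ((a' + d') * ((b' - a) * b * a)) := by rw [hyz, mul_one]
      _ = (b' - a) * b * a := by rw [← mul_assoc, hzy, one_mul]
  have : a * b * a = a - z := by
    rw [hzeq, sub_mul, sub_mul, hb'b, one_mul, sub_sub_cancel]
  rw [this]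
  exact sub_mem ha hz

end hua

variable {A : Type u} [AddCommGroup A] [Finite A]

/-- The field of a spread set. -/
theorem exists_field (r : ℕ) [Fact r.Prime] (hexp : ∀ v : A, r • v = 0) (hA : 1 < Nat.card A)
    (S T : AddSubgroup (AddMonoid.End A)) (hS : Nat.card S = Nat.card A)
    (h1 : (1 : AddMonoid.End A) ∈ S) (hST : InvIn S T) (hTS : InvIn T S) :
    ∃ (F : Type) (_ : Field F) (_ : Fintype F) (ι : F →+* AddMonoid.End A),
      Fintype.card F = Nat.card A ∧ ∀ a, a ∈ S ↔ ∃ f, ι f = a := by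
  letI := AddCommGroup.zmodModule (n := r) (G := A) hexp
  haveI : Module.Finite (ZMod r) A := Module.Finite.of_finite
  haveI : Nontrivial A := Finite.one_lt_card_iff_nontrivial.1 hA
  have h10 : (1 : AddMonoid.End A) ≠ 0 := by
    intro e
    obtain ⟨a, ha⟩ := exists_ne (0 : A)
    exact ha (by simpa using DFunLike.congr_fun e a)
  set m := Module.finrank (ZMod r) A with hm
  have hAm : Nat.card A = r ^ m := by
    rw [Nat.card_congr (Module.finBasisOfFinrankEq (ZMod r) A hm.symm).equivFun.toEquiv,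
      Nat.card_fun, Nat.card_zmod, Nat.card_fin]
  have hm0 : 0 < m := by
    rcases Nat.eq_zero_or_pos m with h | h
    · rw [hAm, h, pow_zero] at hA; exact absurd hA (lt_irrefl 1)
    · exact h
  let e₁ : AddMonoid.End A ≃+* Module.End (ZMod r) A :=
    { (AddMonoidHom.toZModLinearMapEquiv r (M := A) (M₁ := A) :
        (A →+ A) ≃+ (A →ₗ[ZMod r] A)) with
      map_mul' := fun f g => by ext x; rfl }
  let b := Module.finBasisOfFinrankEq (ZMod r) A hm.symm
  let e : AddMonoid.End A ≃+* Matrix (Fin m) (Fin m) (ZMod r) :=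
    e₁.trans (LinearMap.toMatrixAlgEquiv b).toRingEquiv
  let S' : AddSubgroup (Matrix (Fin m) (Fin m) (ZMod r)) := S.map e.toAddEquiv.toAddMonoidHom
  have hmem : ∀ M, M ∈ S' ↔ e.symm M ∈ S := by
    intro M
    constructor
    · rintro ⟨a, ha, rfl⟩
      simpa using ha
    · intro h
      exact ⟨e.symm M, h, by simp⟩
  have hcard : Nat.card S' = r ^ m := by
    rw [← hAm, ← hS]
    refine Nat.card_congr (Equiv.subtypeEquiv e.symm.toEquiv fun M => ?_)
    exact hmem M
  have hSS := inv_closed h1 hST hTS h10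
  have h1' : (1 : Matrix (Fin m) (Fin m) (ZMod r)) ∈ S' := (hmem 1).2 (by rwa [map_one])
  have hunit : ∀ M ∈ S', M ≠ 0 → IsUnit M := by
    intro M hM hM0
    obtain ⟨c, -, hac, hca⟩ := hSS _ ((hmem M).1 hM) (by simpa using hM0)
    have hu : IsUnit (e.symm M) := ⟨⟨e.symm M, c, hac, hca⟩, rfl⟩
    simpa using hu.map e.toRingHom
  have haba : ∀ M ∈ S', ∀ N ∈ S', M * N * M ∈ S' := by
    intro M hM N hN
    rw [hmem, map_mul, map_mul]
    exact aba_mem hSS ((hmem M).1 hM) ((hmem N).1 hN)
  have hfld := Cfsg.Agent.Lib.Ostrom64.spread r m hm0 S' hcard h1' hunit haba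
  let K : Subring (Matrix (Fin m) (Fin m) (ZMod r)) :=
    { carrier := S'
      mul_mem' := fun {x y} hx hy => (hfld x hx y hy).2
      one_mem' := h1'
      add_mem' := fun {x y} hx hy => S'.add_mem hx hy
      zero_mem' := S'.zero_mem
      neg_mem' := fun {x} hx => S'.neg_mem hx }
  letI : CommRing K :=
    { (inferInstance : Ring K) with mul_comm := fun x y => Subtype.ext (hfld x x.2 y y.2).1 }
  haveI : Nontrivial K := ⟨⟨0, 1, fun h => h10 (by
    have h' : (0 : Matrix (Fin m) (Fin m) (ZMod r)) = 1 := congrArg Subtype.val h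
    simpa using (congrArg e.symm h').symm)⟩⟩
  haveI : NoZeroDivisors K := by
    constructor
    intro x y hxy
    by_cases hx : x = 0
    · exact Or.inl hx
    · have hu := hunit x.1 x.2 (fun h => hx (Subtype.ext h))
      have h' : (x : Matrix (Fin m) (Fin m) (ZMod r)) * y = 0 := congrArg Subtype.val hxy
      exact Or.inr (Subtype.ext (hu.mul_right_eq_zero.1 h'))
  haveI : IsDomain K := NoZeroDivisors.to_isDomain K
  letI : Fintype K := Fintype.ofFinite K
  letI hF : Field K := (Finite.isField_of_domain K).toField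
  let ι : K →+* AddMonoid.End A :=
    { toFun := fun x => e.symm (x : Matrix (Fin m) (Fin m) (ZMod r))
      map_one' := map_one e.symm
      map_mul' := fun x y => map_mul e.symm _ _
      map_zero' := map_zero e.symm
      map_add' := fun x y => map_add e.symm _ _ }
  refine ⟨K, hF, inferInstance, ι, ?_, fun a => ⟨fun ha => ?_, ?_⟩⟩
  · rw [Fintype.card_eq_nat_card, hAm, ← hcard]
    exact Nat.card_congr (Equiv.refl _)
  · exact ⟨⟨e a, (hmem _).2 (by simpa using ha)⟩, by simp [ι]⟩
  · rintro ⟨f, rfl⟩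
    exact (hmem _).1 f.2

/-- Evaluation at a nonzero vector is a bijection. -/
theorem eval_bijective {F : Type} [Field F] [Fintype F] (ι : F →+* AddMonoid.End A)
    (hc : Fintype.card F = Nat.card A) {a : A} (ha : a ≠ 0) :
    Function.Bijective (fun f : F => ι f a) := by
  letI : Fintype A := Fintype.ofFinite A
  rw [Fintype.bijective_iff_injective_and_card, hc, Fintype.card_eq_nat_card]
  refine ⟨fun f g h => ?_, rfl⟩
  by_contra hne
  have h0 : ι (f - g) a = 0 := by
    rw [map_sub]
    exact sub_eq_zero.2 h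
  have h1 : ι ((f - g)⁻¹ * (f - g)) a = a := by
    rw [inv_mul_cancel₀ (sub_ne_zero.2 hne), map_one]; rfl
  rw [map_mul] at h1
  change (ι (f - g)⁻¹) (ι (f - g) a) = a at h1
  exact ha (by rw [← h1, h0, map_zero])

end Cfsg.Agent.Lib.SpreadKernel35
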