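import Cfsg.Agent.Lib.SpreadKernel35.Basic
import Cfsg.Agent.Lib.ONan64.Spec

/-!
The planes of a geometric spread: the components of a plane as graphs of additive maps, closed under
sums, inverses and composition.
-/

set_option autoImplicit false

namespace Cfsg.Agent.Lib.SpreadKernel35

open Cfsg.Agent.Lib.ONan64

universe u v

variable {V : Type u} [AddCommGroup V] {H : Type v} {E : H → AddSubgroup V} {p o : ℕ}

/-- The graph of `f` is a component. -/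
def IsL (E : H → AddSubgroup V) {a c : H} (f : ↥(E a) →+ ↥(E c)) : Prop :=
  ∃ z, ∀ x : V, x ∈ E z ↔ ∃ e : ↥(E a), x = (e : V) + f e

section
variable [Finite V] (h : GeomSpread V E p o)

include h

theorem nontrivial_comp (z : H) : ∃ x ∈ E z, x ≠ 0 := by
  have : Nontrivial ↥(E z) := Finite.one_lt_card_iff_nontrivial.1 (by rw [h.card z]; exact h.one_lt)
  obtain ⟨x, hx⟩ := exists_ne (0 : ↥(E z))
  exact ⟨x, x.2, fun e => hx (Subtype.ext e)⟩

theorem eq_of_le {z w : H} (hle : E z ≤ E w) : z = w := by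
  obtain ⟨x, hx, hx0⟩ := nontrivial_comp h z
  exact h.inj z w x hx (hle hx) hx0

theorem eq_zero_of_mem {a c : H} (hac : a ≠ c) {x : V} (ha : x ∈ E a) (hc : x ∈ E c) : x = 0 := by
  by_contra hx
  exact hac (h.inj a c x ha hc hx)

theorem split_unique {a c : H} (hac : a ≠ c) {e e' f f' : V} (he : e ∈ E a) (he' : e' ∈ E a)
    (hf : f ∈ E c) (hf' : f' ∈ E c) (heq : e + f = e' + f') : e = e' ∧ f = f' := by
  have h1 : e - e' = f' - f := by
    rw [sub_eq_sub_iff_add_eq_add, heq]; abel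
  have h0 : e - e' = 0 :=
    eq_zero_of_mem h hac (sub_mem he he') (h1 ▸ sub_mem hf' hf)
  refine ⟨sub_eq_zero.1 h0, ?_⟩
  rw [h0] at h1
  exact (sub_eq_zero.1 h1.symm).symm

theorem graph_of_le {a c z : H} (hac : a ≠ c) (hzc : z ≠ c) (hle : E z ≤ E a ⊔ E c) :
    ∃ f : ↥(E a) →+ ↥(E c), ∀ x : V, x ∈ E z ↔ ∃ e : ↥(E a), x = (e : V) + f e := by
  have hdec : ∀ x : ↥(E z), ∃ q : ↥(E a) × ↥(E c), (q.1 : V) + q.2 = x := by
    intro x
    obtain ⟨e, he, f, hf, hef⟩ := AddSubgroup.mem_sup.1 (hle x.2)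
    exact ⟨(⟨e, he⟩, ⟨f, hf⟩), hef⟩
  choose q hq using hdec
  let P : ↥(E z) →+ ↥(E a) := AddMonoidHom.mk' (fun x => (q x).1) (fun x y => Subtype.ext (by
    refine (split_unique h hac (q (x + y)).1.2 (add_mem (q x).1.2 (q y).1.2) (q (x + y)).2.2
      (add_mem (q x).2.2 (q y).2.2) ?_).1
    rw [hq, AddSubgroup.coe_add, ← hq x, ← hq y]; abel))
  let Q : ↥(E z) →+ ↥(E c) := AddMonoidHom.mk' (fun x => (q x).2) (fun x y => Subtype.ext (by
    refine (split_unique h hac (q (x + y)).1.2 (add_mem (q x).1.2 (q y).1.2) (q (x + y)).2.2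
      (add_mem (q x).2.2 (q y).2.2) ?_).2
    rw [hq, AddSubgroup.coe_add, ← hq x, ← hq y]; abel))
  have hPQ : ∀ x : ↥(E z), (P x : V) + Q x = x := hq
  have hinj : Function.Injective P := by
    rw [injective_iff_map_eq_zero]
    intro x hx
    have h1 := hPQ x
    rw [hx, AddSubgroup.coe_zero, zero_add] at h1
    exact Subtype.ext (eq_zero_of_mem h hzc x.2 (h1 ▸ (Q x).2))
  have hbij : Function.Bijective P :=
    hinj.bijective_of_nat_card_le (by rw [h.card, h.card])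
  let e := AddEquiv.ofBijective P hbij
  refine ⟨Q.comp e.symm.toAddMonoidHom, fun x => ⟨fun hx => ?_, ?_⟩⟩
  · refine ⟨P ⟨x, hx⟩, ?_⟩
    have h2 : e.symm (P ⟨x, hx⟩) = ⟨x, hx⟩ := e.symm_apply_apply _
    show x = _ + (Q (e.symm (P ⟨x, hx⟩)) : V)
    rw [h2, hPQ]
  · rintro ⟨b, rfl⟩
    have h2 : P (e.symm b) = b := e.apply_symm_apply b
    show (b : V) + (Q (e.symm b) : V) ∈ E z
    have h3 := hPQ (e.symm b)
    rw [h2] at h3
    rw [h3]
    exact (e.symm b).2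

theorem isL_of_le {a c z : H} (hac : a ≠ c) (hzc : z ≠ c) (hle : E z ≤ E a ⊔ E c) :
    ∃ f : ↥(E a) →+ ↥(E c), IsL E f ∧ ∀ x : V, x ∈ E z ↔ ∃ e : ↥(E a), x = (e : V) + f e := by
  obtain ⟨f, hf⟩ := graph_of_le h hac hzc hle
  exact ⟨f, ⟨z, hf⟩, hf⟩

omit [Finite V] h in
theorem graph_le {a c z : H} {f : ↥(E a) →+ ↥(E c)}
    (hz : ∀ x : V, x ∈ E z ↔ ∃ e : ↥(E a), x = (e : V) + f e) : E z ≤ E a ⊔ E c := by
  intro x hx
  obtain ⟨e, rfl⟩ := (hz x).1 hx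
  exact AddSubgroup.mem_sup.2 ⟨e, e.2, f e, (f e).2, rfl⟩

theorem graph_ne {a c z : H} {f : ↥(E a) →+ ↥(E c)} (hac : a ≠ c)
    (hz : ∀ x : V, x ∈ E z ↔ ∃ e : ↥(E a), x = (e : V) + f e) : z ≠ c := by
  rintro rfl
  obtain ⟨x, hx, hx0⟩ := nontrivial_comp h a
  have h1 : x + (f ⟨x, hx⟩ : V) ∈ E z := (hz _).2 ⟨⟨x, hx⟩, rfl⟩
  have h2 : x ∈ E z := by
    have h3 := sub_mem h1 (f ⟨x, hx⟩).2
    rwa [add_sub_cancel_right] at h3
  exact hx0 (eq_zero_of_mem h hac hx h2)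

theorem graph_ne_left {a c z : H} {f : ↥(E a) →+ ↥(E c)} (hac : a ≠ c) (hf0 : f ≠ 0)
    (hz : ∀ x : V, x ∈ E z ↔ ∃ e : ↥(E a), x = (e : V) + f e) : z ≠ a := by
  rintro rfl
  apply hf0
  ext e
  have h1 : (e : V) + f e ∈ E z := (hz _).2 ⟨e, rfl⟩
  have h2 : (f e : V) ∈ E z := by
    have h3 := sub_mem h1 e.2
    rwa [add_sub_cancel_left] at h3
  exact eq_zero_of_mem h hac h2 (f e).2

theorem ext_graph {a c z : H} {f g : ↥(E a) →+ ↥(E c)} (hac : a ≠ c)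
    (hf : ∀ x : V, x ∈ E z ↔ ∃ e : ↥(E a), x = (e : V) + f e)
    (hg : ∀ x : V, x ∈ E z ↔ ∃ e : ↥(E a), x = (e : V) + g e) : f = g := by
  ext e
  obtain ⟨e', he'⟩ := (hg _).1 ((hf ((e : V) + f e)).2 ⟨e, rfl⟩)
  obtain ⟨h1, h2⟩ := split_unique h hac e.2 e'.2 (f e).2 (g e').2 he'
  rw [h2, Subtype.ext h1]

theorem isL_ext {a c : H} (hac : a ≠ c) {f g : ↥(E a) →+ ↥(E c)} (hf : IsL E f) (hg : IsL E g)
    {e : ↥(E a)} (he : e ≠ 0) (heq : f e = g e) : f = g := by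
  obtain ⟨z, hz⟩ := hf
  obtain ⟨w, hw⟩ := hg
  have hne : (e : V) + f e ≠ 0 := fun h0 => he (Subtype.ext
    (split_unique h hac e.2 (zero_mem _) (f e).2 (zero_mem _) (by rw [h0, add_zero])).1)
  have hzw : z = w :=
    h.inj z w _ ((hz _).2 ⟨e, rfl⟩) ((hw _).2 ⟨e, by rw [heq]⟩) hne
  subst hzw
  exact ext_graph h hac hz hw

omit [Finite V] h in
theorem isL_zero (a c : H) : IsL E (0 : ↥(E a) →+ ↥(E c)) :=
  ⟨a, fun x => ⟨fun hx => ⟨⟨x, hx⟩, by simp⟩, by rintro ⟨e, rfl⟩; simp⟩⟩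

theorem exists_isL {a c : H} (hac : a ≠ c) {e : ↥(E a)} (he : e ≠ 0) (e' : ↥(E c)) :
    ∃ f : ↥(E a) →+ ↥(E c), IsL E f ∧ f e = e' := by
  by_cases he' : e' = 0
  · exact ⟨0, isL_zero a c, by simp [he']⟩
  have hx : (e : V) + e' ≠ 0 := fun h0 => he (Subtype.ext
    (split_unique h hac e.2 (zero_mem _) e'.2 (zero_mem _) (by rw [h0, add_zero])).1)
  obtain ⟨z, hz⟩ := h.exists_mem _ hx
  have hle := h.plane a c z _ hz hx (AddSubgroup.mem_sup.2 ⟨e, e.2, e', e'.2, rfl⟩)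
  have hzc : z ≠ c := by
    rintro rfl
    have h3 := sub_mem hz e'.2
    rw [add_sub_cancel_right] at h3
    exact he (Subtype.ext (eq_zero_of_mem h hac e.2 h3))
  obtain ⟨f, hf, hgr⟩ := isL_of_le h hac hzc hle
  refine ⟨f, hf, ?_⟩
  obtain ⟨b, hb⟩ := (hgr _).1 hz
  obtain ⟨h1, h2⟩ := split_unique h hac e.2 b.2 e'.2 (f b).2 hb
  rw [Subtype.ext h1]
  exact (Subtype.ext h2).symm

theorem bijective_of_isL {a c : H} (hac : a ≠ c) {f : ↥(E a) →+ ↥(E c)} (hf : IsL E f)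
    (hf0 : f ≠ 0) : Function.Bijective f := by
  refine Function.Injective.bijective_of_nat_card_le ?_ (by rw [h.card, h.card])
  rw [injective_iff_map_eq_zero]
  intro e he
  by_contra hne
  exact hf0 (isL_ext h hac hf (isL_zero a c) hne (by rw [he]; rfl))

/-- A shear restricted to a component off its centre. -/
theorem exists_restrict {a c : H} (σ : V ≃+ V) (h1 : ∀ x, σ x - x ∈ E c)
    (h3 : ∀ z, ∃ z', (E z).map σ.toAddMonoidHom = E z') :
    ∃ α : ↥(E a) →+ ↥(E c), IsL E α ∧ ∀ e : ↥(E a), σ e = (e : V) + α e := by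
  let α : ↥(E a) →+ ↥(E c) := AddMonoidHom.mk' (fun e => ⟨σ e - e, h1 e⟩) (fun e e' => Subtype.ext
    (by simp only [AddSubgroup.coe_add, map_add]; abel))
  have hα : ∀ e : ↥(E a), σ e = (e : V) + α e := fun e => by
    show σ e = (e : V) + (σ e - e)
    rw [add_sub_cancel]
  obtain ⟨z', hz'⟩ := h3 a
  refine ⟨α, ⟨z', fun x => ?_⟩, hα⟩
  rw [← hz', AddSubgroup.mem_map]
  constructor
  · rintro ⟨y, hy, rfl⟩
    exact ⟨⟨y, hy⟩, hα ⟨y, hy⟩⟩
  · rintro ⟨e, rfl⟩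
    exact ⟨e, e.2, hα e⟩

/-- A shear moving the first axis to a given graph. -/
theorem exists_shear_to {a c : H} (hac : a ≠ c) {g : ↥(E a) →+ ↥(E c)} (hg : IsL E g) :
    ∃ σ : V ≃+ V, (∀ x, σ x - x ∈ E c) ∧ (∀ x ∈ E c, σ x = x) ∧
      (∀ z, ∃ z', (E z).map σ.toAddMonoidHom = E z') ∧ ∀ e : ↥(E a), σ e = (e : V) + g e := by
  obtain ⟨w, hw⟩ := hg
  have hle : E w ≤ E c ⊔ E a := by rw [sup_comm]; exact graph_le hw
  obtain ⟨σ, h1, h2, h3, h4⟩ := h.shear c a w hac (graph_ne h hac hw) hle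
  refine ⟨σ, h1, h2, h3, fun e => ?_⟩
  obtain ⟨α, -, hαe⟩ := exists_restrict h (a := a) σ h1 h3
  have hgr : ∀ x : V, x ∈ E w ↔ ∃ e : ↥(E a), x = (e : V) + α e := by
    intro x
    rw [← h4, AddSubgroup.mem_map]
    constructor
    · rintro ⟨y, hy, rfl⟩
      exact ⟨⟨y, hy⟩, hαe ⟨y, hy⟩⟩
    · rintro ⟨b, rfl⟩
      exact ⟨b, b.2, hαe b⟩
  rw [ext_graph h hac hw hgr, hαe]

theorem isL_add {a c : H} (hac : a ≠ c) {f g : ↥(E a) →+ ↥(E c)} (hf : IsL E f) (hg : IsL E g) :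
    IsL E (f + g) := by
  obtain ⟨z, hz⟩ := hf
  obtain ⟨σ, -, h2, h3, h4⟩ := exists_shear_to h hac hg
  obtain ⟨z', hz'⟩ := h3 z
  have key : ∀ e : ↥(E a), σ ((e : V) + f e) = (e : V) + ((f + g) e : ↥(E c)) := fun e => by
    rw [map_add, h2 _ (f e).2, h4]
    simp only [AddMonoidHom.add_apply, AddSubgroup.coe_add]
    abel
  refine ⟨z', fun x => ?_⟩
  rw [← hz', AddSubgroup.mem_map]
  constructor
  · rintro ⟨y, hy, rfl⟩
    obtain ⟨e, rfl⟩ := (hz y).1 hy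
    exact ⟨e, key e⟩
  · rintro ⟨e, rfl⟩
    exact ⟨_, (hz _).2 ⟨e, rfl⟩, key e⟩

theorem isL_nsmul {a c : H} (hac : a ≠ c) {f : ↥(E a) →+ ↥(E c)} (hf : IsL E f) (k : ℕ) :
    IsL E (k • f) := by
  induction k with
  | zero => rw [zero_nsmul]; exact isL_zero a c
  | succ k ih => rw [succ_nsmul]; exact isL_add h hac ih hf

theorem isL_neg {a c : H} (hac : a ≠ c) {f : ↥(E a) →+ ↥(E c)} (hf : IsL E f) : IsL E (-f) := by
  have h1 : (p - 1) • f + f = 0 := by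
    rw [← succ_nsmul, Nat.sub_add_cancel h.prime.one_le]
    ext e
    exact h.expo _
  rw [← eq_neg_of_add_eq_zero_left h1]
  exact isL_nsmul h hac hf _

/-- The maps between two components forming the components of their plane. -/
def LG {a c : H} (hac : a ≠ c) : AddSubgroup (↥(E a) →+ ↥(E c)) where
  carrier := {f | IsL E f}
  zero_mem' := isL_zero a c
  add_mem' := fun hf hg => isL_add h hac hf hg
  neg_mem' := fun hf => isL_neg h hac hf

theorem card_LG {a c : H} (hac : a ≠ c) : Nat.card (LG h hac) = o := by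
  obtain ⟨x, hx, hx0⟩ := nontrivial_comp h a
  have he : (⟨x, hx⟩ : ↥(E a)) ≠ 0 := fun e => hx0 (congrArg Subtype.val e)
  refine Eq.trans ?_ (h.card c)
  refine Nat.card_congr (Equiv.ofBijective (fun f => f.1 ⟨x, hx⟩) ⟨fun f g e => ?_, fun e' => ?_⟩)
  · exact Subtype.ext (isL_ext h hac f.2 g.2 he e)
  · obtain ⟨f, hf, hfe⟩ := exists_isL h hac he e'
    exact ⟨⟨f, hf⟩, hfe⟩

theorem isL_inverse {a c : H} (hac : a ≠ c) {f : ↥(E a) →+ ↥(E c)} (hf : IsL E f) (hf0 : f ≠ 0) :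
    ∃ g : ↥(E c) →+ ↥(E a), IsL E g ∧ (∀ e, g (f e) = e) ∧ ∀ e, f (g e) = e := by
  let e := AddEquiv.ofBijective f (bijective_of_isL h hac hf hf0)
  obtain ⟨z, hz⟩ := hf
  refine ⟨e.symm.toAddMonoidHom, ⟨z, fun x => ?_⟩, e.symm_apply_apply, e.apply_symm_apply⟩
  rw [hz]
  constructor
  · rintro ⟨b, rfl⟩
    refine ⟨f b, ?_⟩
    show _ = (f b : V) + (e.symm (e b) : V)
    rw [e.symm_apply_apply, add_comm]
  · rintro ⟨b, rfl⟩
    refine ⟨e.symm b, ?_⟩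
    show (b : V) + _ = (e.symm b : V) + (e (e.symm b) : V)
    rw [e.apply_symm_apply, add_comm]
    rfl

theorem sup_eq {a c u w : H} (hac : a ≠ c) (huw : u ≠ w) (hu : E u ≤ E a ⊔ E c)
    (hw : E w ≤ E a ⊔ E c) : E u ⊔ E w = E a ⊔ E c := by
  have hcard : ∀ s t : H, s ≠ t → Nat.card ↥(E s ⊔ E t) = o * o := by
    intro s t hst
    rw [show o * o = Nat.card (↥(E s) × ↥(E t)) by rw [Nat.card_prod, h.card, h.card]]
    refine (Nat.card_congr (Equiv.ofBijective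
      (fun q : ↥(E s) × ↥(E t) => (⟨(q.1 : V) + q.2,
        AddSubgroup.mem_sup.2 ⟨q.1, q.1.2, q.2, q.2.2, rfl⟩⟩ : ↥(E s ⊔ E t)))
      ⟨fun q q' e => ?_, fun x => ?_⟩)).symm
    · obtain ⟨h1, h2⟩ := split_unique h hst q.1.2 q'.1.2 q.2.2 q'.2.2 (congrArg Subtype.val e)
      exact Prod.ext (Subtype.ext h1) (Subtype.ext h2)
    · obtain ⟨b, hb, d, hd, hbd⟩ := AddSubgroup.mem_sup.1 x.2
      exact ⟨(⟨b, hb⟩, ⟨d, hd⟩), Subtype.ext hbd⟩
  exact AddSubgroup.eq_of_le_of_card_ge (sup_le hu hw)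
    (by rw [hcard u w huw, hcard a c hac])

theorem isL_comp {a b c : H} (hab : a ≠ b) (hbc : b ≠ c) (hac : a ≠ c)
    (hb : ¬ E b ≤ E a ⊔ E c) {φ : ↥(E a) →+ ↥(E b)} {χ : ↥(E b) →+ ↥(E c)}
    (hφ : IsL E φ) (hχ : IsL E χ) : IsL E (χ.comp φ) := by
  obtain ⟨z, hz⟩ := hφ
  obtain ⟨σ, h1, -, h3, h4⟩ := exists_shear_to h hbc hχ
  obtain ⟨α, hα, hαe⟩ := exists_restrict h (a := a) σ h1 h3
  obtain ⟨K, hK⟩ := h3 z
  have key : ∀ e : ↥(E a),
      σ ((e : V) + φ e) = ((e : V) + ((α + χ.comp φ) e : ↥(E c))) + φ e := fun e => by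
    rw [map_add, hαe, h4]
    simp only [AddMonoidHom.add_apply, AddMonoidHom.comp_apply, AddSubgroup.coe_add]
    abel
  have hKmem : ∀ e : ↥(E a), ((e : V) + ((α + χ.comp φ) e : ↥(E c))) + φ e ∈ E K := fun e => by
    rw [← key e, ← hK]
    exact AddSubgroup.mem_map.2 ⟨_, (hz _).2 ⟨e, rfl⟩, rfl⟩
  have hne : ∀ e : ↥(E a), e ≠ 0 → (e : V) + ((α + χ.comp φ) e : ↥(E c)) ≠ 0 := fun e he h0 =>
    he (Subtype.ext (split_unique h hac e.2 (zero_mem _) ((α + χ.comp φ) e).2 (zero_mem _)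
      (by rw [h0, add_zero])).1)
  have hQ : ∀ e : ↥(E a), (e : V) + ((α + χ.comp φ) e : ↥(E c)) ∈ E K ⊔ E b := fun e => by
    refine AddSubgroup.mem_sup.2 ⟨_, hKmem e, -(φ e : V), neg_mem (φ e).2, ?_⟩
    abel
  obtain ⟨x, hx, hx0⟩ := nontrivial_comp h a
  have he0 : (⟨x, hx⟩ : ↥(E a)) ≠ 0 := fun e => hx0 (congrArg Subtype.val e)
  obtain ⟨U, hU⟩ := h.exists_mem _ (hne _ he0)
  have hUle1 : E U ≤ E a ⊔ E c := h.plane a c U _ hU (hne _ he0)
    (AddSubgroup.mem_sup.2 ⟨_, SetLike.coe_mem (⟨x, hx⟩ : ↥(E a)), _, SetLike.coe_mem _, rfl⟩)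
  have hUle2 : E U ≤ E K ⊔ E b := h.plane K b U _ hU (hne _ he0) (hQ _)
  have hKb : K ≠ b := by
    rintro rfl
    have h5 := sub_mem (hKmem ⟨x, hx⟩) (φ ⟨x, hx⟩).2
    rw [add_sub_cancel_right] at h5
    have hle := h.plane a c K _ h5 (hne _ he0)
      (AddSubgroup.mem_sup.2 ⟨_, SetLike.coe_mem (⟨x, hx⟩ : ↥(E a)), _, SetLike.coe_mem _, rfl⟩)
    exact hb hle
  have hall : ∀ e : ↥(E a), (e : V) + ((α + χ.comp φ) e : ↥(E c)) ∈ E U := by
    intro e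
    by_cases he : e = 0
    · rw [he]; simp
    obtain ⟨U', hU'⟩ := h.exists_mem _ (hne e he)
    have h1' : E U' ≤ E a ⊔ E c := h.plane a c U' _ hU' (hne e he)
      (AddSubgroup.mem_sup.2 ⟨_, e.2, _, SetLike.coe_mem _, rfl⟩)
    have h2' : E U' ≤ E K ⊔ E b := h.plane K b U' _ hU' (hne e he) (hQ e)
    by_cases hUU : U' = U
    · exact hUU ▸ hU'
    · exfalso
      apply hb
      rw [← sup_eq h hac hUU h1' hUle1, sup_eq h hKb hUU h2' hUle2]
      exact le_sup_right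
  have hUc : U ≠ c := by
    rintro rfl
    have h5 := sub_mem hU ((α + χ.comp φ) ⟨x, hx⟩).2
    rw [add_sub_cancel_right] at h5
    exact hx0 (eq_zero_of_mem h hac hx h5)
  obtain ⟨γ, hγ, hgr⟩ := isL_of_le h hac hUc hUle1
  have hγeq : γ = α + χ.comp φ := by
    ext e
    obtain ⟨e', he'⟩ := (hgr _).1 (hall e)
    obtain ⟨h5, h6⟩ := split_unique h hac e.2 e'.2 ((α + χ.comp φ) e).2 (γ e').2 he'
    obtain rfl := Subtype.ext h5
    exact h6.symm
  have : χ.comp φ = γ + -α := by rw [hγeq]; abel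
  rw [this]
  exact isL_add h hac hγ (isL_neg h hac hα)

omit [Finite V] h in
/-- The embedding of `E u` onto the graph of `g`. -/
theorem exists_iota {u w t : H} {g : ↥(E u) →+ ↥(E w)}
    (hgr : ∀ x : V, x ∈ E t ↔ ∃ e : ↥(E u), x = (e : V) + g e) :
    ∃ i : ↥(E u) →+ ↥(E t), ∀ e, (i e : V) = (e : V) + g e :=
  ⟨AddMonoidHom.mk' (fun e => ⟨(e : V) + g e, (hgr _).2 ⟨e, rfl⟩⟩) (fun e e' => Subtype.ext (by
    simp only [AddSubgroup.coe_add, map_add]; abel)), fun _ => rfl⟩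

/-- Composites of the embedding onto the graph of `g`. -/
theorem isL_iota_comp {u w t : H} (huw : u ≠ w) {g : ↥(E u) →+ ↥(E w)} (hg : IsL E g)
    (hg0 : g ≠ 0) {i : ↥(E u) →+ ↥(E t)} (hi : ∀ e, (i e : V) = (e : V) + g e)
    (r : ↥(E u) →+ ↥(E u))
    (hr : (∀ e, r e = -e) ∨
      ∃ j : ↥(E u) →+ ↥(E u), (∀ e, j e + r (j e) = e) ∧ IsL E (g.comp (r.comp j))) :
    IsL E (i.comp r) := by
  rcases hr with hr | ⟨j, hj, z, hz⟩
  · refine ⟨w, fun x => ⟨fun hx => ?_, ?_⟩⟩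
    · obtain ⟨e, he⟩ := (bijective_of_isL h huw hg hg0).2 ⟨x, hx⟩
      refine ⟨-e, ?_⟩
      simp only [AddMonoidHom.comp_apply, hi, hr, neg_neg, he, AddSubgroup.coe_neg]
      abel
    · rintro ⟨e, rfl⟩
      simp only [AddMonoidHom.comp_apply, hi, hr, AddSubgroup.coe_neg]
      rw [← add_assoc, add_neg_cancel, zero_add]
      exact SetLike.coe_mem _
  · refine ⟨z, fun x => ?_⟩
    rw [hz]
    have hsurj : Function.Surjective (fun e : ↥(E u) => e + r e) := fun e => ⟨j e, hj e⟩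
    have hinj : Function.Injective (fun e : ↥(E u) => e + r e) :=
      Finite.injective_iff_surjective.2 hsurj
    constructor
    · rintro ⟨e, rfl⟩
      refine ⟨j e, ?_⟩
      simp only [AddMonoidHom.comp_apply, hi]
      rw [← add_assoc]
      congr 1
      rw [← AddSubgroup.coe_add, hj]
    · rintro ⟨e, rfl⟩
      refine ⟨e + r e, ?_⟩
      have hje : j (e + r e) = e := hinj (hj (e + r e))
      simp only [AddMonoidHom.comp_apply, hi, hje]
      rw [← add_assoc]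
      rfl

/-- The embedding onto a graph lies in the spread. -/
theorem isL_iota {u w t : H} (huw : u ≠ w) {g : ↥(E u) →+ ↥(E w)} (hg : IsL E g) (hg0 : g ≠ 0)
    {i : ↥(E u) →+ ↥(E t)} (hi : ∀ e, (i e : V) = (e : V) + g e) : IsL E i := by
  have hc : i.comp (AddMonoidHom.id _) = i := AddMonoidHom.comp_id i
  rw [← hc]
  refine isL_iota_comp h huw hg hg0 hi _ ?_
  rcases h.prime.eq_two_or_odd' with rfl | hodd
  · refine Or.inl fun e => ?_
    show e = -e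
    rw [eq_neg_iff_add_eq_zero, ← two_nsmul]
    exact Subtype.ext (h.expo _)
  · obtain ⟨k, hk⟩ := hodd
    refine Or.inr ⟨(k + 1) • AddMonoidHom.id _, fun e => ?_, ?_⟩
    · simp only [AddMonoidHom.nsmul_apply, AddMonoidHom.id_apply]
      rw [← add_nsmul, show k + 1 + (k + 1) = p + 1 by omega, add_nsmul, one_nsmul,
        show p • e = 0 from Subtype.ext (h.expo _), zero_add]
    · have hck : g.comp ((AddMonoidHom.id _).comp ((k + 1) • AddMonoidHom.id _)) = (k + 1) • g := by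
        ext e
        simp
      rw [hck]
      exact isL_nsmul h huw hg _

end

end Cfsg.Agent.Lib.SpreadKernel35
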